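import Cfsg.Agent.H921.K4.Uniq_m3
import Cfsg.Agent.H740.K4.Equiv_m3
import Cfsg.Agent.H618.Complement
import Cfsg.Agent.H813.K547.Par
import Cfsg.Agent.H626.PrincipalOver
import Cfsg.Agent.S0902
import Cfsg.Agent.H700.PRatExt
import Cfsg.Agent.Blocks.PrincipalInflate
import Cfsg.Agent.S4548
import Cfsg.Agent.S4550
import Cfsg.Agent.H590.OddPrincipal
import Cfsg.Agent.Blocks.Central
import Cfsg.Agent.Prune
set_option linter.all false

section
prune_inst 0x7f00000000000000000000000000000000000000000000000000000000000000000000000000000000000000000000000000000000000000000000000000000000000000000000000000000000000000003fffffffffffffffffffffffffffbeffbdffffffff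

-- part: H514/K547/Parity
section
set_option linter.all false
open scoped Cfsg.Agent.FastGrp

-- part: H514/K547/Defs
section
/-!
# S4547: the reduction (helper514), interface

* `gs G` : the good characters of `G` (odd degree, `σ`-fixed, principal 2-block), `fg G` their number;
* `gsx N x` : the good characters of the normal subgroup `N` fixed by conjugation with `x`;
* `TT G` : the Sylow 2-subgroups of `G` need at least three generators iff `G` has at least five good characters.
-/

set_option autoImplicit false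

namespace Cfsg.Agent.H514.K547

open Cfsg Subgroup Cfsg.Agent.H601.K4 Cfsg.Agent.H821.K547

universe u

/-- the good characters -/
def gs (G : Type u) [Group G] : Set (G → ℂ) := {χ | Good χ}

/-- the number of the good characters -/
noncomputable def fg (G : Type u) [Group G] : ℕ := (gs G).ncard

/-- the good characters of the normal subgroup `N` fixed by conjugation with `x` -/
def gsx {G : Type u} [Group G] (N : Subgroup G) [N.Normal] (x : G) : Set (N → ℂ) :=
  {θ | Good θ ∧ ∀ n : N, θ (MulAut.conjNormal x n) = θ n}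

/-- the statement which is proved by induction -/
def TT (G : Type u) [Group G] : Prop := D3 G ↔ 5 ≤ fg G

theorem gs_finite (G : Type u) [Group G] [Finite G] : (gs G).Finite := by
  have : Finite (IrrCharacter G) := Cfsg.Agent.Characters.Core.finite_irr
  have h : (Set.range fun χ : IrrCharacter G => (χ : G → ℂ)).Finite := Set.finite_range _
  exact h.subset fun χ hχ => ⟨⟨χ, hχ.odd.1⟩, rfl⟩

theorem gsx_finite {G : Type u} [Group G] [Finite G] (N : Subgroup G) [N.Normal] (x : G) : (gsx N x).Finite :=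
  (gs_finite N).subset fun _ h => h.1

theorem one_mem_gs (G : Type u) [Group G] [Finite G] : (fun _ => 1) ∈ gs G := H740.K4.good_one'

end Cfsg.Agent.H514.K547
end

-- part: H514/K547/Parity
section
/-!
# S4547, parity (helper514)

* `not_dvd_sum` : `H` contains a Sylow `p`-subgroup, `η` is in the principal block of `H` and of degree prime to `p`:
  the sum of `χ(1) [χ_H, η]` over the principal block of `G` is prime to `p`;
* `inB0_of_mem` : the principal block does not depend on the maximal ideal;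
* `exists_good_over` : a good character over a good character, fixed by an automorphism.
-/

set_option autoImplicit false

open scoped ComplexConjugate
open Cfsg Cfsg.Agent.Characters.Core Cfsg.Agent.Blocks.Local

namespace Cfsg.Agent.H514.K547

open Cfsg.Agent.H626

universe u

section sum

variable {G : Type u} [Group G] [Finite G] {p : ℕ} [hp : Fact p.Prime] {M : Ideal AlgInt}

theorem not_dvd_sum (hM : IsPModular p M) (P : Sylow p G) (H : Subgroup G) [Fintype H]
    (hPH : (P : Subgroup G) ≤ H) (η : IrrCharacter H) (hη : η ∈ principalBlock M H)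
    (hdeg : ¬ p ∣ charDegree (η : H → ℂ)) (O : Finset (IrrCharacter G)) (hO : ∀ χ, χ ∈ O ↔ χ ∈ principalBlock M G)
    (m : IrrCharacter G → ℕ)
    (hm : ∀ χ : IrrCharacter G, classInner (η : H → ℂ) (fun h : H => (χ : G → ℂ) h) = m χ) :
    ¬ p ∣ ∑ χ ∈ O, charDegree (χ : G → ℂ) * m χ := by
  classical
  have := Fintype.ofFinite G
  have hMp : M.IsPrime := isPrime_of_isPModular hM
  have hfin : Finite (IrrCharacter G) := finite_irr
  have := Fintype.ofFinite (IrrCharacter G)
  have hηR : ∀ x, MemLocalRing M ((η : H → ℂ) x) := fun x =>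
    memLocalRing_of_isIntegral (Blocks.Central.isIntegral_irr η.2 x)
  have hηc := isIrr_isClassFunction η.2
  let P' : Sylow p H := P.subtype hPH
  have hcP : ∀ x : H, x ∈ Subgroup.centralizer ((P' : Subgroup H) : Set H) →
      (x : G) ∈ Subgroup.centralizer ((P : Subgroup G) : Set G) := by
    intro x hx
    rw [Subgroup.mem_centralizer_iff] at hx ⊢
    intro y hy
    exact congrArg (Subtype.val : H → G) (hx ⟨y, hPH hy⟩ hy)
  obtain ⟨d, hd0, hd⟩ := isIrr_apply_one η.2
  have hdeg' : charDegree (η : H → ℂ) = d := by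
    rw [charDegree, hd]
    simp
  rw [hdeg'] at hdeg
  have hB0G := isPBlock_principal M G
  have hB0H := isPBlock_principal M H
  set S := creg p (P' : Subgroup H) (η : H → ℂ) with hS
  have hSR : MemLocalRing M S := by
    rw [hS, creg]
    exact memLocalRing_sum fun x _ => hηR x
  -- in `H`
  have k1 : MemLocalIdeal M (∑ x : H, blockCoeff (principalBlock M H) x * (η : H → ℂ) x -
      (nreg p H : ℂ)⁻¹ * S) :=
    sum_congr_creg hM (P' : Subgroup H) P'.2 _ _
      (fun u _ x => Blocks.BlockIdem.isClassFunction_blockCoeff _ x u) (fun u _ x => hηc x u)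
      (fun x => S0913.result p M hM _ hB0H x) hηR _ (fun x hx => blockCoeff_singular hM hx)
      (fun x hx hx' => blockCoeff_centralizer hM P' hx hx')
  have k2 : ∑ x : H, blockCoeff (principalBlock M H) x * (η : H → ℂ) x = d := by
    have := Blocks.BlockIdem.lin_blockCoeff (principalBlock M H) η
    rw [Blocks.ConvCentral.lin_def, if_pos hη, hd] at this
    exact this
  rw [k2] at k1
  have hSunit : ¬ MemLocalIdeal M S := by
    intro h
    have h1 : MemLocalIdeal M (d : ℂ) := by
      rw [memLocalIdeal_iff_of_sub k1]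
      exact memLocalIdeal_mul_left (memLocalRing_inv_natCast hM nreg_not_dvd) h
    exact hdeg ((memLocalIdeal_natCast_iff hM d).1 h1)
  -- in `G`
  have k3 : MemLocalIdeal M (∑ x : H, blockCoeff (principalBlock M G) (x : G) * (η : H → ℂ) x -
      (nreg p G : ℂ)⁻¹ * S) :=
    sum_congr_creg hM (P' : Subgroup H) P'.2 (fun x : H => blockCoeff (principalBlock M G) (x : G)) _
      (fun u _ x => Blocks.BlockIdem.isClassFunction_blockCoeff _ (x : G) (u : G))
      (fun u _ x => hηc x u)
      (fun x => S0913.result p M hM _ hB0G x) hηR _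
      (fun x hx => blockCoeff_singular hM (by rwa [Subgroup.orderOf_coe]))
      (fun x hx hx' => blockCoeff_centralizer hM P (hcP x hx) (by rwa [Subgroup.orderOf_coe]))
  have k4 : ¬ MemLocalIdeal M
      (∑ x : H, blockCoeff (principalBlock M G) (x : G) * (η : H → ℂ) x) := by
    rw [memLocalIdeal_iff_of_sub k3]
    intro h
    rcases memLocalIdeal_or_of_mul (memLocalRing_inv_natCast hM nreg_not_dvd) hSR h with h1 | h1
    · have h2 : MemLocalIdeal M ((nreg p G : ℂ) * (nreg p G : ℂ)⁻¹) :=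
        memLocalIdeal_mul_left (memLocalRing_natCast _) h1
      have h3 : (nreg p G : ℂ) ≠ 0 := by
        have : nreg p G ≠ 0 := fun h0 => nreg_not_dvd (p := p) (G := G) (h0 ▸ dvd_zero p)
        exact_mod_cast this
      rw [mul_inv_cancel₀ h3] at h2
      exact not_memLocalIdeal_one h2
    · exact hSunit h1
  have he : ∀ χ : IrrCharacter G, (χ : G → ℂ) 1 = charDegree (χ : G → ℂ) := fun χ =>
    Cfsg.Agent.Blocks.Basic.irr_one_eq_charDegree χ.2
  have k5 : (H.index : ℂ) * ∑ x : H, blockCoeff (principalBlock M G) (x : G) * (η : H → ℂ) x =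
      ∑ χ ∈ O, ((charDegree (χ : G → ℂ) * m χ : ℕ) : ℂ) := by
    have hcoe : ∀ x : G, blockCoeff (principalBlock M G) x = (Nat.card G : ℂ)⁻¹ *
        ∑ χ ∈ O, (χ : G → ℂ) 1 * conj ((χ : G → ℂ) x) := by
      intro x
      rw [blockCoeff, finsum_mem_eq_toFinset_sum]
      congr 1
      refine Finset.sum_congr ?_ fun _ _ => rfl
      ext χ
      rw [Set.mem_toFinset, hO]
    have hH0 : (Nat.card H : ℂ) ≠ 0 := by exact_mod_cast Nat.card_pos.ne'
    have hG0 : (Nat.card G : ℂ) ≠ 0 := by exact_mod_cast Nat.card_pos.ne'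
    have hGH : (Nat.card G : ℂ) = Nat.card H * H.index := by
      exact_mod_cast (H.card_mul_index).symm
    have hH1 : (H.index : ℂ) ≠ 0 := by exact_mod_cast H.index_ne_zero_of_finite
    have e1 : ∀ x : H, blockCoeff (principalBlock M G) (x : G) * (η : H → ℂ) x =
        ∑ χ ∈ O, (Nat.card G : ℂ)⁻¹ *
          ((charDegree (χ : G → ℂ) : ℂ) * ((η : H → ℂ) x * conj ((χ : G → ℂ) x))) := by
      intro x
      rw [hcoe, Finset.mul_sum, Finset.sum_mul]
      refine Finset.sum_congr rfl fun χ _ => ?_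
      rw [he]
      ring
    rw [Finset.sum_congr rfl (fun x _ => e1 x), Finset.sum_comm, Finset.mul_sum]
    refine Finset.sum_congr rfl fun χ _ => ?_
    rw [← Finset.mul_sum, ← Finset.mul_sum]
    have e2 : ∑ x : H, (η : H → ℂ) x * conj ((χ : G → ℂ) x) = Nat.card H * m χ := by
      rw [← hm χ, classInner_def, mul_inv_cancel_left₀ hH0]
    rw [e2, hGH]
    push_cast
    field_simp
  have hidx : ¬ p ∣ H.index := by
    intro h
    exact P.not_dvd_index (h.trans (Subgroup.index_dvd_of_le hPH))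
  intro hdvd
  have k6 : MemLocalIdeal M (∑ χ ∈ O, ((charDegree (χ : G → ℂ) * m χ : ℕ) : ℂ)) := by
    rw [← Nat.cast_sum]
    exact (memLocalIdeal_natCast_iff hM _).2 hdvd
  rw [← k5] at k6
  have hR : MemLocalRing M
      (∑ x : H, blockCoeff (principalBlock M G) (x : G) * (η : H → ℂ) x) :=
    memLocalRing_sum fun x _ =>
      memLocalRing_mul (S0913.result p M hM _ hB0G (x : G)) (hηR x)
  rcases memLocalIdeal_or_of_mul (memLocalRing_natCast _) hR k6 with h1 | h1
  · exact hidx ((memLocalIdeal_natCast_iff hM _).1 h1)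
  · exact k4 h1

end sum

open Cfsg.Agent.H601.K4 Cfsg.Agent.H821.K547 Cfsg.Agent.H618.Sigma

/-- the principal block does not depend on the maximal ideal -/
theorem inB0_of_mem {G : Type u} [Group G] [Finite G] {M : Ideal AlgInt} (hM : IsPModular 2 M) {χ : G → ℂ}
    (hi : IsIrrCharacter G χ) (h : (⟨χ, hi⟩ : IrrCharacter G) ∈ principalBlock M G) : InB0 χ := by
  have := fact_two'
  intro M' hM' hi' g
  have : M'.IsPrime := hM'.2.1.isPrime
  obtain ⟨r, hr, hr'⟩ := S0902.result 2 M hM ⟨fun _ => 1, Cfsg.Agent.Blocks.Basic.isIrrCharacter_one⟩ ⟨χ, hi⟩ h M' hM' g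
  rw [← hr']
  exact memLocalIdeal_of_mem hr
where
  fact_two' : Fact (Nat.Prime 2) := ⟨Nat.prime_two⟩

variable {G : Type u} [Group G] [Finite G]

/-- **A good character over a good character, fixed by an automorphism.** -/
theorem exists_good_over (H : Subgroup G) (hH : ¬ 2 ∣ H.index) {η : H → ℂ} (hη : Good η) (τ : MulAut G)
    (hτ : TwoPow τ) (hτH : ∀ h ∈ H, τ h ∈ H) (hτη : ∀ h : H, η ⟨τ h, hτH h h.2⟩ = η h) :
    ∃ χ : G → ℂ, Good χ ∧ (∀ g, χ (τ g) = χ g) ∧
      ∃ m : ℕ, Odd m ∧ ∀ [Fintype H], classInner (fun h : H => χ h) η = m := by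
  classical
  have : Fact (Nat.Prime 2) := ⟨Nat.prime_two⟩
  obtain ⟨M, hM⟩ := Cfsg.Agent.Blocks.ExistsModular.exists_isPModular Nat.prime_two
  obtain ⟨k, hk⟩ := H740.K4.exists_cube G
  have : Finite (IrrCharacter G) := finite_irr
  have := Fintype.ofFinite (IrrCharacter G)
  have hFH := Fintype.ofFinite H
  -- a Sylow subgroup in `H`
  obtain ⟨P, hP⟩ := H700.PRatExt.exists_sylow_le H hH
  let η' : IrrCharacter H := ⟨η, hη.odd.1⟩
  have hη' : η' ∈ principalBlock M H := hη.b0 M hM hη.odd.1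
  choose m hm using fun χ : IrrCharacter G => classInner_isNat (isIrr_isCharacter η'.2)
    (Characters.Clifford.isCharacter_restrict H (isIrr_isCharacter χ.2))
  have h1 := not_dvd_sum hM P H hP η' hη' hη.odd.2 (Finset.univ.filter (· ∈ principalBlock M G))
    (fun χ => by simp) m hm
  -- cubing
  have hms : ∀ χ : IrrCharacter G, m (sig hk χ) = m χ := by
    intro χ
    have h2 : (m (sig hk χ) : ℂ) = m χ := by
      rw [← hm, ← hm, classInner_def, classInner_def]
      congr 1
      rw [← Function.Bijective.sum_comp (H740.K4.bij_pow (hk.subgroup H))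
        fun h : H => (η' : H → ℂ) h * conj ((χ : G → ℂ) h)]
      refine Finset.sum_congr rfl fun h _ => ?_
      have h3 := hη.sig k (hk.subgroup H).two (hk.subgroup H).odd h
      show η h * conj ((χ : G → ℂ) ((h : G) ^ k)) = η (h ^ k) * conj ((χ : G → ℂ) ((h ^ k : H) : G))
      rw [h3, Subgroup.coe_pow]
    exact_mod_cast h2
  have hτb : Function.Bijective fun h : H => (⟨τ h, hτH h h.2⟩ : H) := by
    rw [← Finite.injective_iff_bijective]
    intro a b hab
    have : τ (a : G) = τ b := congrArg Subtype.val hab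
    exact Subtype.ext (τ.injective this)
  have hmt : ∀ χ : IrrCharacter G, m (tauI τ χ) = m χ := by
    intro χ
    have h2 : (m (tauI τ χ) : ℂ) = m χ := by
      rw [← hm, ← hm, classInner_def, classInner_def]
      congr 1
      rw [← Function.Bijective.sum_comp hτb fun h : H => (η' : H → ℂ) h * conj ((χ : G → ℂ) h)]
      refine Finset.sum_congr rfl fun h _ => ?_
      show η h * conj ((χ : G → ℂ) (τ h)) = η ⟨τ h, hτH h h.2⟩ * conj ((χ : G → ℂ) (τ h))
      rw [hτη]
    exact_mod_cast h2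
  set f : IrrCharacter G → ZMod 2 := fun χ => (charDegree (χ : G → ℂ) : ZMod 2) * (m χ : ZMod 2) with hf
  have h2 : ∑ χ : IrrCharacter G with χ ∈ principalBlock M G, f χ ≠ 0 := by
    intro h3
    apply h1
    rw [← ZMod.natCast_eq_zero_iff]
    push_cast
    exact h3
  obtain ⟨n, hn⟩ := hk.exists_iter
  rw [sum_fixed_pred (sig hk) n (fun χ => Subtype.ext (funext fun g => by rw [sig_iter, hn]))
    (fun χ => χ ∈ principalBlock M G) (fun χ h => sig_mem_principalBlock hk h) f
    (fun χ _ => by simp only [hf, hms, charDegree_sig])] at h2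
  -- the good ones
  have h3 : ∀ χ : IrrCharacter G, Good (χ : G → ℂ) ↔ (χ ∈ principalBlock M G ∧ sig hk χ = χ) ∧
      Odd (charDegree (χ : G → ℂ)) := by
    intro χ
    constructor
    · intro h
      exact ⟨⟨h.b0 M hM h.odd.1, (sig_eq_iff hk χ).2 (h.sig k hk.two hk.odd)⟩, odd_iff.2 h.odd.2⟩
    · rintro ⟨⟨h4, h5⟩, h6⟩
      exact ⟨⟨χ.2, odd_iff.1 h6⟩, H740.K4.sigFix_of hk ((sig_eq_iff hk χ).1 h5), inB0_of_mem hM χ.2 h4⟩
  have h4 : ∑ χ : IrrCharacter G with (χ ∈ principalBlock M G ∧ sig hk χ = χ), f χ =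
      ∑ χ ∈ Finset.univ.filter (fun χ : IrrCharacter G => Good (χ : G → ℂ)), f χ := by
    symm
    refine Finset.sum_subset (fun χ hχ => ?_) (fun χ hχ hχ' => ?_)
    · rw [Finset.mem_filter] at hχ ⊢
      exact ⟨hχ.1, ((h3 χ).1 hχ.2).1⟩
    · rw [Finset.mem_filter] at hχ hχ'
      have h5 : ¬ Odd (charDegree (χ : G → ℂ)) := fun h => hχ' ⟨Finset.mem_univ _, (h3 χ).2 ⟨hχ.2, h⟩⟩
      rw [hf]
      simp only
      rw [ZMod.natCast_eq_zero_iff_even.2 (Nat.not_odd_iff_even.1 h5), zero_mul]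
  rw [h4] at h2
  obtain ⟨e, s, hs⟩ := hτ
  rw [sum_fixed_pred (tauI τ) e (tauI_two hs) (fun χ => Good (χ : G → ℂ)) (fun χ h =>
    H740.K4.good_comp τ h) f (fun χ _ => by simp only [hf, hmt, charDegree_tauI])] at h2
  obtain ⟨χ, hχ, hχ'⟩ := Finset.exists_ne_zero_of_sum_ne_zero h2
  rw [Finset.mem_filter] at hχ
  refine ⟨χ, hχ.2.1, (tauI_eq_iff τ χ).1 hχ.2.2, m χ, ?_, ?_⟩
  · rw [← Nat.not_even_iff_odd, ← ZMod.natCast_eq_zero_iff_even]
    intro h5
    apply hχ'
    rw [hf]
    simp only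
    rw [h5, mul_zero]
  · have key : classInner (fun h : H => (χ : G → ℂ) h) η = m χ := by
      have h5 := hm χ
      rw [classInner_def] at h5 ⊢
      have h6 := congrArg conj h5
      rw [Complex.conj_natCast] at h6
      rw [← h6, map_mul, map_sum]
      congr 1
      · simp
      · refine Finset.sum_congr rfl fun h _ => ?_
        rw [map_mul, Complex.conj_conj, mul_comm]
    intro hF
    have hE : hF = hFH := Subsingleton.elim _ _
    rw [hE]
    exact key

end Cfsg.Agent.H514.K547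
end
end

-- part: H191/K547/Prod
section
set_option linter.all false
open scoped Cfsg.Agent.FastGrp

-- part: H191/K547/Bridge
section
/-!
# S4547: the number of good characters in the words of the statements (helper191)

* `good_iff`, `fg_eq_card` : `fg G` is the cardinality in S4547, S4548, S4550;
* `isCyclic_iff_fg` : S4548 for `fg`;
* `even_fg` : S4550 for `fg`;
* `fg_pos`, `fg_of_odd` : at least one, exactly one for a group of odd order;
* `eq_of_smul` : proportional irreducible characters are equal.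
-/

set_option autoImplicit false

open Cfsg Cfsg.Agent.Characters.Core Cfsg.Agent.H601.K4 Cfsg.Agent.H514.K547 Cfsg.Agent.H618.Sigma

namespace Cfsg.Agent.H191.K547

universe u

variable {G : Type u} [Group G] [Finite G]

/-- the good characters in the words of the statements -/
theorem good_iff {M : Ideal AlgInt} (hM : IsPModular 2 M) {k : ℕ}
    (hk₁ : ∀ g : G, (∃ j : ℕ, orderOf g = 2 ^ j) → g ^ k = g ^ 3) (hk₂ : ∀ g : G, Odd (orderOf g) → g ^ k = g)
    (χ : IrrCharacter G) : Good (χ : G → ℂ) ↔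
      χ ∈ principalBlock M G ∧ Odd (charDegree (χ : G → ℂ)) ∧ ∀ g : G, (χ : G → ℂ) (g ^ k) = (χ : G → ℂ) g := by
  constructor
  · intro h
    exact ⟨h.b0 M hM χ.2, odd_iff.2 h.odd.2, h.sig k hk₁ hk₂⟩
  · rintro ⟨h1, h2, h3⟩
    exact ⟨⟨χ.2, odd_iff.1 h2⟩, H740.K4.sigFix_of ⟨hk₁, hk₂⟩ h3, inB0_of_mem hM χ.2 h1⟩

/-- **The number of good characters.** -/
theorem fg_eq_card {M : Ideal AlgInt} (hM : IsPModular 2 M) {k : ℕ}
    (hk₁ : ∀ g : G, (∃ j : ℕ, orderOf g = 2 ^ j) → g ^ k = g ^ 3) (hk₂ : ∀ g : G, Odd (orderOf g) → g ^ k = g) :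
    fg G = Nat.card {χ : IrrCharacter G // χ ∈ principalBlock M G ∧ Odd (charDegree (χ : G → ℂ)) ∧
      ∀ g : G, (χ : G → ℂ) (g ^ k) = (χ : G → ℂ) g} := by
  have h1 : gs G = Subtype.val '' {χ : IrrCharacter G | χ ∈ principalBlock M G ∧ Odd (charDegree (χ : G → ℂ)) ∧
      ∀ g : G, (χ : G → ℂ) (g ^ k) = (χ : G → ℂ) g} := by
    ext χ
    constructor
    · intro h
      exact ⟨⟨χ, Good.odd h |>.1⟩, (good_iff hM hk₁ hk₂ _).1 h, rfl⟩
    · rintro ⟨ψ, h, rfl⟩
      exact (good_iff hM hk₁ hk₂ ψ).2 h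
  rw [fg, h1, Set.ncard_image_of_injective _ Subtype.val_injective]
  rfl

/-- S4548 -/
theorem isCyclic_iff_fg (hev : Even (Nat.card G)) (P : Sylow 2 G) : IsCyclic P ↔ fg G = 2 := by
  obtain ⟨M, hM⟩ := Cfsg.Agent.Blocks.ExistsModular.exists_isPModular Nat.prime_two
  obtain ⟨k, hk⟩ := H740.K4.exists_cube G
  rw [fg_eq_card hM hk.two hk.odd]
  exact S4548.result M hM hev P k hk.two hk.odd

/-- S4550 -/
theorem even_fg (hev : Even (Nat.card G)) : Even (fg G) := by
  obtain ⟨M, hM⟩ := Cfsg.Agent.Blocks.ExistsModular.exists_isPModular Nat.prime_two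
  obtain ⟨k, hk⟩ := H740.K4.exists_cube G
  rw [fg_eq_card hM hk.two hk.odd]
  exact S4550.result M hM hev k hk.two hk.odd

theorem fg_pos : 0 < fg G := by
  rw [fg, Set.ncard_pos (gs_finite G)]
  exact ⟨_, one_mem_gs G⟩

/-- proportional irreducible characters are equal -/
theorem eq_of_smul {χ ψ : G → ℂ} (hχ : IsIrrCharacter G χ) (hψ : IsIrrCharacter G ψ) {c : ℂ} (hc : c ≠ 0)
    (h : ∀ g, ψ g = c * χ g) : ψ = χ := by
  have := Fintype.ofFinite G
  by_contra hne
  have h1 := classInner_irr_ne hψ hχ hne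
  have h2 : ψ = c • χ := funext h
  rw [h2, classInner_smul_left, classInner_irr_self hχ, mul_one] at h1
  exact hc h1

/-- a group of odd order has one good character -/
theorem fg_of_odd (hodd : ¬ 2 ∣ Nat.card G) : fg G = 1 := by
  have : Fact (Nat.Prime 2) := ⟨Nat.prime_two⟩
  obtain ⟨M, hM⟩ := Cfsg.Agent.Blocks.ExistsModular.exists_isPModular Nat.prime_two
  rw [fg, Set.ncard_eq_one]
  refine ⟨fun _ => 1, Set.eq_singleton_iff_unique_mem.2 ⟨one_mem_gs G, fun χ hχ => ?_⟩⟩
  have h1 : Good χ := hχ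
  refine eq_of_smul Cfsg.Agent.Blocks.Basic.isIrrCharacter_one h1.odd.1 (isIrr_apply_one_ne_zero h1.odd.1) fun g => ?_
  have h2 := Cfsg.Agent.Blocks.PrincipalInflate.apply_mul hM (N := (⊤ : Subgroup G))
    (by rwa [Subgroup.card_top]) (h1.b0 M hM h1.odd.1) (Subgroup.mem_top g) 1
  rw [mul_one] at h2
  rw [mul_one]
  exact h2

end Cfsg.Agent.H191.K547
end

-- part: H191/K547/Prod
section
/-!
# S4547: good characters of a direct product (helper191)

* `good_outer` : the outer product of good characters is good;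
* `exists_of_good_outer` : the good characters of `A × B`;
* `ncard_gsx` : `N ≃ L × L` such that the automorphism given by `z` becomes `(u, v) ↦ (v ^ y, u)`: the good
  characters of `N` fixed by `z` are as many as the good characters of `L` fixed by `y`;
* `card_homx` : the same for the homomorphisms into `±1`.
-/

set_option autoImplicit false

open Cfsg Cfsg.Agent.Characters.Core Cfsg.Agent.H601.K4 Cfsg.Agent.H514.K547 Cfsg.Agent.H618.Sigma

namespace Cfsg.Agent.H191.K547

open Cfsg.Agent.Blocks.Local Cfsg.Agent.Blocks.Basic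

universe u v

section outer

variable {A : Type u} {B : Type v} [Group A] [Group B]

theorem charDegree_outer {φ : A → ℂ} {ψ : B → ℂ} (hφ : IsIrrCharacter A φ) (hψ : IsIrrCharacter B ψ) :
    charDegree (fun x : A × B => φ x.1 * ψ x.2) = charDegree φ * charDegree ψ := by
  apply Cfsg.Agent.Blocks.Basic.charDegree_of_eq
  push_cast
  simp only [Prod.fst_one, Prod.snd_one]
  rw [Cfsg.Agent.Blocks.Basic.irr_one_eq_charDegree hφ, Cfsg.Agent.Blocks.Basic.irr_one_eq_charDegree hψ]

theorem cube_left {k : ℕ} (h : Cube (A × B) k) : Cube A k := by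
  refine ⟨fun a ha => ?_, fun a ha => ?_⟩
  · have h1 := h.two ((a, 1) : A × B) (by
      obtain ⟨j, hj⟩ := ha
      exact ⟨j, by rw [Prod.orderOf_mk, orderOf_one, Nat.lcm_one_right, hj]⟩)
    exact congrArg Prod.fst h1
  · have h1 := h.odd ((a, 1) : A × B) (by rwa [Prod.orderOf_mk, orderOf_one, Nat.lcm_one_right])
    exact congrArg Prod.fst h1

theorem cube_right {k : ℕ} (h : Cube (A × B) k) : Cube B k := by
  refine ⟨fun a ha => ?_, fun a ha => ?_⟩
  · have h1 := h.two ((1, a) : A × B) (by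
      obtain ⟨j, hj⟩ := ha
      exact ⟨j, by rw [Prod.orderOf_mk, orderOf_one, Nat.lcm_one_left, hj]⟩)
    exact congrArg Prod.snd h1
  · have h1 := h.odd ((1, a) : A × B) (by rwa [Prod.orderOf_mk, orderOf_one, Nat.lcm_one_left])
    exact congrArg Prod.snd h1

theorem centralizer_pair (a : A) (b : B) :
    Subgroup.centralizer ({(a, b)} : Set (A × B)) =
      (Subgroup.centralizer ({a} : Set A)).prod (Subgroup.centralizer ({b} : Set B)) := by
  ext ⟨x, y⟩
  simp only [Subgroup.mem_prod, Subgroup.mem_centralizer_singleton_iff, Prod.mk_mul_mk, Prod.mk.injEq]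

theorem centralChar_outer (φ : A → ℂ) (ψ : B → ℂ) (a : A) (b : B) :
    centralChar (fun x : A × B => φ x.1 * ψ x.2) (a, b) = centralChar φ a * centralChar ψ b := by
  unfold centralChar
  rw [centralizer_pair, Subgroup.index_prod]
  push_cast
  rw [div_mul_div_comm]
  congr 1
  ring

variable [Finite A] [Finite B]

/-- the outer product of characters in the principal blocks -/
theorem mem_outer {M : Ideal AlgInt} [M.IsPrime] {α : IrrCharacter A}
    (hα : α ∈ principalBlock M A) {β : IrrCharacter B} (hβ : β ∈ principalBlock M B)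
    (hi : IsIrrCharacter (A × B) (fun x : A × B => (α : A → ℂ) x.1 * (β : B → ℂ) x.2)) :
    (⟨fun x => (α : A → ℂ) x.1 * (β : B → ℂ) x.2, hi⟩ : IrrCharacter (A × B)) ∈ principalBlock M (A × B) := by
  rintro ⟨a, b⟩
  have h1 : centralChar (fun _ : A × B => (1 : ℂ)) (a, b) =
      centralChar (fun _ : A => (1 : ℂ)) a * centralChar (fun _ : B => (1 : ℂ)) b := by
    rw [← centralChar_outer]
    simp only [mul_one]
  show MemLocalIdeal M (centralChar (fun _ : A × B => (1 : ℂ)) (a, b) -
    centralChar (fun x : A × B => (α : A → ℂ) x.1 * (β : B → ℂ) x.2) (a, b))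
  rw [h1, centralChar_outer]
  refine memLocalIdeal_mul_sub_mul ?_ ?_ (hα a) (hβ b)
  · exact memLocalRing_of_isIntegral (Cfsg.Agent.Blocks.Central.isIntegral_centralChar isIrrCharacter_one a)
  · exact memLocalRing_of_isIntegral (Cfsg.Agent.Blocks.Central.isIntegral_centralChar β.2 b)

/-- **The outer product of good characters.** -/
theorem good_outer {φ : A → ℂ} {ψ : B → ℂ} (hφ : Good φ) (hψ : Good ψ) :
    Good (fun x : A × B => φ x.1 * ψ x.2) := by
  have hi := Cfsg.Agent.S0188.isIrr_outer hφ.odd.1 hψ.odd.1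
  refine ⟨⟨hi, ?_⟩, ?_, ?_⟩
  · rw [charDegree_outer hφ.odd.1 hψ.odd.1, Nat.prime_two.dvd_mul]
    rintro (h | h)
    · exact hφ.odd.2 h
    · exact hψ.odd.2 h
  · intro k h1 h2 g
    have hk : Cube (A × B) k := ⟨h1, h2⟩
    have e1 := hφ.sig k (cube_left hk).two (cube_left hk).odd g.1
    have e2 := hψ.sig k (cube_right hk).two (cube_right hk).odd g.2
    show φ (g.1 ^ k) * ψ (g.2 ^ k) = φ g.1 * ψ g.2
    rw [e1, e2]
  · intro M hM hi'
    have : M.IsPrime := hM.2.1.isPrime
    exact mem_outer (hφ.b0 M hM hφ.odd.1) (hψ.b0 M hM hψ.odd.1) hi'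

/-- **The good characters of a direct product.** -/
theorem exists_of_good_outer {χ : A × B → ℂ} (h : Good χ) :
    ∃ (φ : A → ℂ) (ψ : B → ℂ), Good φ ∧ Good ψ ∧ χ = fun x => φ x.1 * ψ x.2 := by
  obtain ⟨φ, ψ, hφ, hψ, he⟩ := (S0188.result χ).1 h.odd.1
  obtain ⟨k, hk⟩ := H740.K4.exists_cube (A × B)
  have hd : charDegree χ = charDegree φ * charDegree ψ := by rw [he, charDegree_outer hφ hψ]
  have hp := Cfsg.Agent.Characters.Core.isIrr_apply_one_ne_zero hφ
  have hq := Cfsg.Agent.Characters.Core.isIrr_apply_one_ne_zero hψ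
  have hs := h.sig k hk.two hk.odd
  have hodd := h.odd.2
  rw [hd, Nat.prime_two.dvd_mul, not_or] at hodd
  refine ⟨φ, ψ, ⟨⟨hφ, hodd.1⟩, ?_, ?_⟩, ⟨⟨hψ, hodd.2⟩, ?_, ?_⟩, he⟩
  · refine H740.K4.sigFix_of (cube_left hk) fun a => ?_
    have h1 : χ (a ^ k, 1 ^ k) = χ (a, 1) := hs (a, 1)
    rw [one_pow, he] at h1
    exact mul_right_cancel₀ hq h1
  · intro M hM hi
    exact H590.OddPrincipal.mem_of_prod (χ := ⟨χ, h.odd.1⟩) (φ := ⟨φ, hi⟩) (ψ := ⟨ψ, hψ⟩) (h.b0 M hM h.odd.1) he
  · refine H740.K4.sigFix_of (cube_right hk) fun b => ?_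
    have h1 : χ (1 ^ k, b ^ k) = χ (1, b) := hs (1, b)
    rw [one_pow, he] at h1
    exact mul_left_cancel₀ hp h1
  · intro M hM hi
    exact H590.OddPrincipal.mem_of_prod' (χ := ⟨χ, h.odd.1⟩) (φ := ⟨φ, hφ⟩) (ψ := ⟨ψ, hi⟩) (h.b0 M hM h.odd.1) he

end outer

/-- **Two factors which are swapped: the characters.** -/
theorem ncard_gsx {G : Type u} [Group G] [Finite G] (N : Subgroup G) [N.Normal] (z : G) {G' : Type v} [Group G']
    [Finite G'] (L : Subgroup G') [L.Normal] (y : G') (E : N ≃* L × L)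
    (hE : ∀ n : N, E (MulAut.conjNormal z n) = (MulAut.conjNormal y (E n).2, (E n).1)) :
    (gsx N z).ncard = (gsx L y).ncard := by
  symm
  refine Set.ncard_congr (fun φ _ n => φ (E n).1 * φ (E n).2) ?_ ?_ ?_
  · intro φ hφ
    refine ⟨H740.K4.good_comp E (good_outer hφ.1 hφ.1), fun n => ?_⟩
    show φ (E (MulAut.conjNormal z n)).1 * φ (E (MulAut.conjNormal z n)).2 = φ (E n).1 * φ (E n).2
    rw [hE, hφ.2, mul_comm]
  · intro φ ψ hφ hψ h
    have h1 : ∀ u v : L, φ u * φ v = ψ u * ψ v := by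
      intro u v
      have h2 := congrFun h (E.symm (u, v))
      simpa using h2
    have hp := isIrr_apply_one_ne_zero hφ.1.odd.1
    have hq := isIrr_apply_one_ne_zero hψ.1.odd.1
    refine eq_of_smul hψ.1.odd.1 hφ.1.odd.1 (div_ne_zero hq hp) fun g => ?_
    rw [div_mul_eq_mul_div, eq_div_iff hp, h1, mul_comm]
  · intro θ hθ
    have h1 : Good (fun x : L × L => θ (E.symm x)) := H740.K4.good_comp E.symm hθ.1
    obtain ⟨φ, ψ, hφ, hψ, he⟩ := exists_of_good_outer h1
    have h2 : ∀ u v : L, θ (E.symm (u, v)) = φ u * ψ v := fun u v => congrFun he (u, v)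
    have h3 : ∀ u v : L, φ (MulAut.conjNormal y v) * ψ u = φ u * ψ v := by
      intro u v
      have h4 := hE (E.symm (u, v))
      rw [E.apply_symm_apply] at h4
      have h5 := hθ.2 (E.symm (u, v))
      rw [← E.symm_apply_apply (MulAut.conjNormal z (E.symm (u, v))), h4, h2, h2] at h5
      exact h5
    have hp := isIrr_apply_one_ne_zero hφ.odd.1
    have hq := isIrr_apply_one_ne_zero hψ.odd.1
    have h4 : ψ = φ := by
      refine eq_of_smul hφ.odd.1 hψ.odd.1 (div_ne_zero hq hp) fun g => ?_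
      rw [div_mul_eq_mul_div, eq_div_iff hp]
      have h5 := h3 g 1
      rw [map_one] at h5
      rw [mul_comm, h5, mul_comm]
    subst h4
    refine ⟨ψ, ⟨hφ, fun v => ?_⟩, ?_⟩
    · have h5 := h3 1 v
      rw [mul_comm] at h5
      exact mul_left_cancel₀ hp h5
    · funext n
      rw [← h2, Prod.mk.eta, E.symm_apply_apply]

/-- **Two factors which are swapped: the homomorphisms into `±1`.** -/
theorem card_homx {G : Type u} [Group G] (Q : Subgroup G) (z : G) (hz : ∀ q ∈ Q, z * q * z⁻¹ ∈ Q) {G' : Type v}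
    [Group G'] (Q' : Subgroup G') (y : G') (hy : ∀ q ∈ Q', y * q * y⁻¹ ∈ Q') (E : Q ≃* Q' × Q')
    (hE : ∀ q : Q, E ⟨z * q * z⁻¹, hz q q.2⟩ = (⟨y * (E q).2 * y⁻¹, hy _ (E q).2.2⟩, (E q).1)) :
    Nat.card {l : ↥Q →* ℤˣ // ∀ (q : ↥Q) (h : z * q * z⁻¹ ∈ Q), l ⟨z * q * z⁻¹, h⟩ = l q} =
      Nat.card {l : ↥Q' →* ℤˣ // ∀ (q : ↥Q') (h : y * q * y⁻¹ ∈ Q'), l ⟨y * q * y⁻¹, h⟩ = l q} := by
  have key : ∀ m : ↥Q →* ℤˣ, (∀ (q : ↥Q) (h : z * q * z⁻¹ ∈ Q), m ⟨z * q * z⁻¹, h⟩ = m q) → ∀ u v : Q',
      m (E.symm (⟨y * v * y⁻¹, hy v v.2⟩, u)) = m (E.symm (u, v)) := by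
    intro m hm u v
    have h1 := hE (E.symm (u, v))
    rw [← hm (E.symm (u, v)) (hz _ (E.symm (u, v)).2)]
    congr 1
    rw [E.symm_apply_eq, h1]
    simp only [E.apply_symm_apply]
  refine Nat.card_congr
    { toFun := fun m => ⟨(m.1.comp E.symm.toMonoidHom).comp (MonoidHom.inl _ _), ?_⟩
      invFun := fun l => ⟨(l.1.comp ((MonoidHom.fst _ _).comp E.toMonoidHom)) *
        (l.1.comp ((MonoidHom.snd _ _).comp E.toMonoidHom)), ?_⟩
      left_inv := ?_
      right_inv := ?_ }
  · intro v hv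
    show m.1 (E.symm (⟨y * v * y⁻¹, hv⟩, 1)) = m.1 (E.symm (v, 1))
    have h1 := key m.1 m.2 1 v
    have h2 := key m.1 m.2 v 1
    have h3 : (⟨y * (1 : Q') * y⁻¹, hy 1 (one_mem Q')⟩ : Q') = 1 := Subtype.ext (by simp)
    have h4 : m.1 (E.symm (1, v)) = m.1 (E.symm (v, 1)) := by
      rw [← h2]
      congr 2
      rw [Prod.mk.injEq]
      exact ⟨h3.symm, rfl⟩
    rw [← h4, ← h1]
  · intro q hq
    show l.1 (E ⟨z * q * z⁻¹, hq⟩).1 * l.1 (E ⟨z * q * z⁻¹, hq⟩).2 = l.1 (E q).1 * l.1 (E q).2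
    rw [hE q, l.2, mul_comm]
  · rintro ⟨m, hm⟩
    apply Subtype.ext
    refine MonoidHom.ext fun q => ?_
    show m (E.symm ((E q).1, 1)) * m (E.symm ((E q).2, 1)) = m q
    have h2 := key m hm (E q).2 1
    have h3 : (⟨y * (1 : Q') * y⁻¹, hy 1 (one_mem Q')⟩ : Q') = 1 := Subtype.ext (by simp)
    have h4 : m (E.symm (1, (E q).2)) = m (E.symm ((E q).2, 1)) := by
      rw [← h2]
      congr 2
      rw [Prod.mk.injEq]
      exact ⟨h3.symm, rfl⟩
    rw [← h4, ← map_mul, ← map_mul, Prod.mk_mul_mk, one_mul, mul_one, Prod.mk.eta, E.symm_apply_apply]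
  · rintro ⟨l, hl⟩
    apply Subtype.ext
    refine MonoidHom.ext fun q => ?_
    show l (E (E.symm (q, 1))).1 * l (E (E.symm (q, 1))).2 = l q
    rw [E.apply_symm_apply, map_one, mul_one]

end Cfsg.Agent.H191.K547
end

private theorem dce_b28d16986b8f : _root_.True := by
  try have : _root_.True := by simp only [_root_.Cfsg.Agent.H514.K547.fg.eq_1]
  exact _root_.True.intro
end
end
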